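import Cfsg.Agent.OddInvol.TypeE8
import Cfsg.Agent.E8PSLThree56.Torus73

/-!
The eigenspaces of the involutions of E8 over the field with three elements in the adjoint module.
-/

set_option autoImplicit false
set_option maxRecDepth 100000

namespace CfsgLib.E8Three

open Cfsg.Lie CfsgLib.Chevalley CfsgLib.ChevField CfsgLib.OddInvol Module

/-- The number of roots with value minus one on a mask. -/
def oddCount (D : ChevalleyDatum) (P : ParTab) (e : ℕ) : ℕ :=
  ((List.range D.nroots).filter fun r => parB P e r).length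

/-- The `-1` eigenspace of an involution is counted by a mask. -/
theorem exists_oddCount {D : ChevalleyDatum} {T : Tab} (h : Checked D T) (hS : h.sys.SupportEq)
    {certs : List (List ℕ × Cert)} (hc : chkCerts D T certs = true) {P : ParTab}
    (hP : chkPar D T P = true) {F : Type} [Field F] [Finite F] (h2 : (2 : F) ≠ 0)
    {K : Type} [Field K] (f : F →+* K) (hK : (2 : K) ≠ 0) {g : GL D.Idx F}
    (hg : g ∈ D.group F) (hgg : g * g = 1) (hg1 : g ≠ 1) :
    ∃ e < 2 ^ D.rank, e ≠ 0 ∧ finrank K ↥(Module.End.eigenspace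
      (Matrix.toLin' ((g : Matrix D.Idx D.Idx F).map f)) (-1)) = oddCount D P e := by
  classical
  obtain ⟨x, -, c, hxc⟩ := exists_tor h hS hc F h2 hg hgg
  have htt : tor D F c * tor D F c = 1 := by
    rw [← hxc, show x * g * x⁻¹ * (x * g * x⁻¹) = x * (g * g) * x⁻¹ by group, hgg]
    group
  obtain ⟨e, he, hec⟩ := exists_mask h.sys htt
  have he0 : e ≠ 0 := by
    intro he0
    have ht : tor D F c = 1 := by
      refine Units.ext ?_
      rw [h.sys.tor_val, Units.val_one]
      exact dg_one fun r hr => by rw [hec r hr, he0]; simp [cls, sgnU]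
    rw [ht, conj_eq_one_iff] at hxc
    exact hg1 hxc
  refine ⟨e, he, he0, ?_⟩
  have e1 : gmap D f g = (gmap D f x)⁻¹ * gmap D f (tor D F c) * ((gmap D f x)⁻¹)⁻¹ := by
    rw [← hxc, map_mul, map_mul, map_inv]
    group
  have e2 : (g : Matrix D.Idx D.Idx F).map f = (gmap D f g : Matrix D.Idx D.Idx K) := by
    ext r s
    rw [gmap_val, Matrix.map_apply]
  let d : D.Idx → K := fun i => match i with
    | .inl _ => 1
    | .inr r => f (sgnU F (cls h.sys e r) : F)
  have hd : (gmap D f (tor D F c) : Matrix D.Idx D.Idx K) = Matrix.diagonal d := by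
    rw [show (gmap D f (tor D F c) : Matrix D.Idx D.Idx K) = (tor D F c : Matrix D.Idx D.Idx F).map f
      from rfl, h.sys.tor_val, dg, Matrix.diagonal_map (map_zero f)]
    congr 1
    funext i
    rcases i with i | r
    · simp [d]
    · simp only [Sum.elim_inr, d]
      rw [hec r r.isLt]
  have hne : (1 : K) ≠ -1 := fun h' => hK (by linear_combination h')
  have hcard : (Finset.univ.filter fun i => d i = -1).card = oddCount D P e := by
    rw [oddCount, ← List.toFinset_card_of_nodup (List.nodup_range.filter _)]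
    refine Finset.card_bij (fun i _ => Sum.elim (fun _ => 0) (fun r : Fin D.nroots => (r : ℕ)) i)
      (fun i hi => ?_) (fun i hi j hj h' => ?_) (fun r hr => ?_)
    · rw [Finset.mem_filter] at hi
      rcases i with i | r
      · exact absurd hi.2 hne
      · rw [List.mem_toFinset, List.mem_filter, List.mem_range]
        refine ⟨r.isLt, ?_⟩
        by_contra hp
        have h3 := hi.2
        simp [d, cls_eq h hP he r.isLt, sgnU] at h3
        rw [if_pos (by simpa using hp)] at h3
        exact hne (by simpa using h3)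
    · rw [Finset.mem_filter] at hi hj
      rcases i with i | r
      · exact absurd hi.2 hne
      rcases j with j | s
      · exact absurd hj.2 hne
      · exact congrArg Sum.inr (Fin.ext h')
    · rw [List.mem_toFinset, List.mem_filter, List.mem_range] at hr
      refine ⟨Sum.inr ⟨r, hr.1⟩, ?_, rfl⟩
      rw [Finset.mem_filter]
      refine ⟨Finset.mem_univ _, ?_⟩
      simp only [d, cls_eq h hP he hr.1, if_pos hr.2, sgnU]
      simp
  rw [e2, e1, E8PSLThree56.finrank_eigenspace_conj, hd,
    E8PSLThree56.finrank_eigenspace_diagonal, hcard]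

theorem oddCount_values :
    ∀ e < 256, e = 0 ∨ oddCount chevE8 parE8 e = 112 ∨ oddCount chevE8 parE8 e = 128 := by
  decide +kernel

theorem two_ne_zmod : (2 : ZMod 3) ≠ 0 := by decide

/-- The `-1` eigenspace of an involution has dimension 112 or 128. -/
theorem finrank_neg_eigenspace {K : Type} [Field K] [CharP K 3]
    {g : GL chevE8.Idx (ZMod 3)} (hg : g ∈ chevE8.group (ZMod 3)) (hgg : g * g = 1) (hg1 : g ≠ 1) :
    finrank K ↥(Module.End.eigenspace (Matrix.toLin'
      ((g : Matrix chevE8.Idx chevE8.Idx (ZMod 3)).map (ZMod.castHom (dvd_refl 3) K))) (-1)) = 112 ∨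
    finrank K ↥(Module.End.eigenspace (Matrix.toLin'
      ((g : Matrix chevE8.Idx chevE8.Idx (ZMod 3)).map (ZMod.castHom (dvd_refl 3) K))) (-1)) = 128 := by
  have hK : (2 : K) ≠ 0 := fun h3 => by
    have h4 : ((2 : ℕ) : K) = 0 := by exact_mod_cast h3
    rw [CharP.cast_eq_zero_iff K 3] at h4
    norm_num at h4
  obtain ⟨e, he, he0, hd⟩ := exists_oddCount checkedE8
    (supportEq_of_chk checkedE8 chkSupp_E8) chkCertsE8 chkParE8 two_ne_zmod
    (ZMod.castHom (dvd_refl 3) K) hK hg hgg hg1
  rw [hd]
  exact (oddCount_values e (by simpa [show chevE8.rank = 8 from rfl] using he)).resolve_left he0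

end CfsgLib.E8Three
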