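import Cfsg.Agent.E8Three.Invol
import Cfsg.Agent.E8PSLThree56.Counting

/-!
No subgroup of E8 over the field with three elements is isomorphic to `PSL(2, 243)`: the dimension of the
`-1` eigenspace of an involution is divisible by five without a Steinberg factor.
-/

set_option autoImplicit false
set_option maxRecDepth 100000

namespace CfsgLib.E8Three

open Cfsg.Lie CfsgLib.Chevalley CfsgLib.SLTwoDef56 CfsgLib.E8PSLThree56 Module
open scoped MatrixGroups

/-- The even labels for the field of order 243 by orbits, with dimensions and `-1` dimensions. -/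
def table243 : List (ℕ × List ℕ × ℕ × ℕ) :=
  [(0, [0], 1, 0),
    (2, [2, 6, 18, 54, 162], 15, 10),
    (4, [4, 12, 36, 108, 82], 20, 10),
    (8, [8, 24, 72, 216, 164], 45, 20),
    (10, [10, 30, 90, 28, 84], 20, 10),
    (14, [14, 42, 126, 136, 166], 60, 30),
    (16, [16, 48, 144, 190, 86], 60, 30),
    (20, [20, 60, 180, 56, 168], 45, 20),
    (22, [22, 66, 198, 110, 88], 60, 30),
    (26, [26, 78, 234, 218, 170], 135, 70),
    (32, [32, 96, 46, 138, 172], 60, 30),
    (34, [34, 102, 64, 192, 92], 60, 30),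
    (38, [38, 114, 100, 58, 174], 60, 30),
    (40, [40, 120, 118, 112, 94], 80, 40),
    (44, [44, 132, 154, 220, 176], 180, 90),
    (50, [50, 150, 208, 140, 178], 180, 90),
    (52, [52, 156, 226, 194, 98], 180, 90),
    (62, [62, 186, 74, 222, 182], 135, 70),
    (68, [68, 204, 128, 142, 184], 180, 90),
    (70, [70, 210, 146, 196, 104], 180, 90),
    (76, [76, 228, 200, 116, 106], 180, 90),
    (80, [80, 240, 236, 224, 188], 405, 200),
    (122, [122, 124, 130, 148, 202], 240, 120),
    (134, [134, 160, 238, 230, 206], 540, 270),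
    (152, [152, 214, 158, 232, 212], 540, 270),
    (242, [242], 243, 122)]

/-- The orbits. -/
def orbs243 : List (ℕ × List ℕ) := table243.map fun p => (p.1, p.2.1)

theorem orbs243_nodup : (orbs243.flatMap Prod.snd).Nodup := by decide +kernel

theorem orbs243_orbit : ∀ p ∈ orbs243,
    p.2 = (List.range p.2.length).map fun i => lam (shift^[i] (labOf 5 p.1)) := by decide +kernel

theorem orbs243_supp : ∀ x < 243, x % 2 = 0 → x ∈ orbs243.flatMap Prod.snd := by decide +kernel

theorem table243_dim : ∀ p ∈ table243,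
    (p.2.1.map fun x => wdim (labOf 5 x)).sum = p.2.2.1 := by decide +kernel

theorem table243_neg : ∀ p ∈ table243,
    (p.2.1.map fun x => resCount 4 2 (List.ofFn fun i => (labOf 5 x i : ℕ))).sum = p.2.2.2 := by
  decide +kernel

theorem sum243 (m : (Fin 5 → Fin 3) → ℕ) (hs : ∀ a, m (shift a) = m a)
    (he : ∀ a, m a ≠ 0 → Even (lam a)) (f : (Fin 5 → Fin 3) → ℕ) (val : ℕ × List ℕ × ℕ × ℕ → ℕ)
    (hval : ∀ p ∈ table243, (p.2.1.map fun x => f (labOf 5 x)).sum = val p) :
    ∑ a, m a * f a = (table243.map fun p => m (labOf 5 p.1) * val p).sum := by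
  rw [sum_orbits m hs orbs243 orbs243_nodup orbs243_orbit
    (fun a ha => orbs243_supp _ (lam_lt a) (Nat.even_iff.mp (he a ha))) f, orbs243, List.map_map]
  exact congrArg List.sum (List.map_congr_left fun p hp => by simp [Function.comp, hval p hp])

theorem arith243 (m : ℕ → ℕ) (h : (table243.map fun p => m p.1 * p.2.2.1).sum = 248) :
    (table243.map fun p => m p.1 * p.2.2.2).sum ≠ 112 ∧
      (table243.map fun p => m p.1 * p.2.2.2).sum ≠ 128 := by
  simp only [table243, List.map_cons, List.map_nil, List.sum_cons, List.sum_nil] at h ⊢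
  omega

/-- `E8(3)` has no subgroup isomorphic to `PSL(2, 243)`. -/
theorem not_psl243 {F : Type*} [Field F] [Fintype F] (hF : Fintype.card F = 243)
    (H : Subgroup ↥(chevE8.group (ZMod 3))) :
    IsEmpty (↥H ≃* Matrix.ProjectiveSpecialLinearGroup (Fin 2) F) := by
  classical
  refine ⟨fun e => ?_⟩
  haveI : CharP F 3 := charP_of_card_eq_prime_pow (p := 3) (f := 5) (by rw [hF]; norm_num)
  letI : Algebra (ZMod 3) F := ZMod.algebra F 3
  let K := AlgebraicClosure (ZMod 3)
  let ι : F →+* K := (IsAlgClosed.lift : F →ₐ[ZMod 3] K).toRingHom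
  let ρG : SL(2, F) →* GL chevE8.Idx (ZMod 3) :=
    (chevE8.group (ZMod 3)).subtype.comp (H.subtype.comp (e.symm.toMonoidHom.comp
      (QuotientGroup.mk' (Subgroup.center SL(2, F)))))
  let ρ₀ : SL(2, F) →* Matrix chevE8.Idx chevE8.Idx (ZMod 3) := (Units.coeHom _).comp ρG
  have hker : ∀ x, ρG x = 1 ↔ x ∈ Subgroup.center SL(2, F) := fun x => by
    rw [← QuotientGroup.eq_one_iff]
    constructor
    · intro h
      have h1 : (e.symm ((x : SL(2, F) ⧸ Subgroup.center SL(2, F)))) = 1 :=
        Subtype.ext (Subtype.ext h)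
      simpa using congrArg e h1
    · intro h
      simp only [ρG, MonoidHom.comp_apply, QuotientGroup.mk'_apply, h, MulEquiv.coe_toMonoidHom]
      simp
  have hm1 : (-1 : SL(2, F)) ∈ Subgroup.center SL(2, F) :=
    Subgroup.mem_center_iff.mpr fun g => by ext i j; simp
  let w : SL(2, F) := ⟨!![0, 1; -1, 0], by simp [Matrix.det_fin_two]⟩
  have hww : w * w = -1 := by
    refine Subtype.ext ?_
    show !![(0 : F), 1; -1, 0] * !![(0 : F), 1; -1, 0] = -(1 : Matrix (Fin 2) (Fin 2) F)
    ext i j
    fin_cases i <;> fin_cases j <;> simp [Matrix.mul_apply, Fin.sum_univ_two]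
  have hw4 : w ^ 4 = 1 := by
    rw [show 4 = 2 * 2 from rfl, pow_mul, pow_two w, hww]
    simp
  have hw : w ∉ Subgroup.center SL(2, F) := fun h => by
    let v : SL(2, F) := ⟨!![1, 1; 0, 1], by simp [Matrix.det_fin_two]⟩
    have h0 : !![(1 : F), 1; 0, 1] * !![(0 : F), 1; -1, 0] = !![(0 : F), 1; -1, 0] * !![(1 : F), 1; 0, 1] :=
      Subtype.ext_iff.mp (Subgroup.mem_center_iff.mp h v)
    have h1 := congrFun (congrFun h0 0) 0
    simp [Matrix.mul_apply, Fin.sum_univ_two] at h1
  have hgg : ρG w * ρG w = 1 := by rw [← map_mul, hww]; exact (hker _).mpr hm1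
  have hneg : ρ₀ (-1) = 1 := by
    show (ρG (-1) : Matrix chevE8.Idx chevE8.Idx (ZMod 3)) = 1
    rw [(hker _).mpr hm1, Units.val_one]
  obtain ⟨μ, hμ⟩ := IsAlgClosed.exists_pow_nat_eq (-1 : K) (show 0 < 2 by norm_num)
  have h2K : (2 : K) ≠ 0 := fun h3 => by
    have h4 : ((2 : ℕ) : K) = 0 := by exact_mod_cast h3
    rw [CharP.cast_eq_zero_iff K 3] at h4
    norm_num at h4
  have h4K : ((4 : ℕ) : K) ≠ 0 := fun h3 => by
    rw [CharP.cast_eq_zero_iff K 3] at h3
    norm_num at h3
  have hμ0 : μ ≠ 0 := fun h => by rw [h] at hμ; simp at hμ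
  have hord : orderOf μ = 2 ^ (1 + 1) := by
    haveI : Fact (Nat.Prime 2) := ⟨Nat.prime_two⟩
    refine orderOf_eq_prime_pow (fun h => ?_) (by rw [pow_succ 2 1, pow_one, pow_mul, hμ]; simp)
    rw [pow_one, hμ] at h
    exact h2K (by linear_combination -h)
  have hprim : IsPrimitiveRoot μ 4 := by
    have := IsPrimitiveRoot.orderOf μ
    rwa [hord] at this
  have hq : Fintype.card F = 3 ^ 5 := by rw [hF]; norm_num
  obtain ⟨m, hs, heven, hdim, heig⟩ := exists_mult (K := K) (n := 5) ι hq ρ₀ hneg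
  have hinv : μ⁻¹ = -μ := inv_eq_of_mul_eq_one_right (by linear_combination -hμ)
  have hcount := heig w 4 hw4 h4K μ (1, μ) (1, μ⁻¹)
    ⟨by simp [w], by simp [w]; linear_combination -hμ⟩
    ⟨by simp [w], by simp [w, hinv]; linear_combination -hμ⟩
    (by
      intro h
      rw [hinv] at h
      have h3 : (2 : K) * μ = 0 := by linear_combination -h
      exact hμ0 ((mul_eq_zero.mp h3).resolve_left h2K))
    (μ ^ 2)
  have hval := sum243 m hs heven (fun a => eigCount μ a (μ ^ 2)) (fun p => p.2.2.2)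
    fun p hp => by
      rw [← table243_neg p hp]
      exact congrArg List.sum (List.map_congr_left fun x _ =>
        eigCount_eq _ hprim (by norm_num) (by norm_num))
  have hd := sum243 m hs heven (fun a => wdim a) (fun p => p.2.2.1) table243_dim
  rw [hdim, show Fintype.card chevE8.Idx = 248 by decide +kernel] at hd
  obtain ⟨h1, h2⟩ := arith243 (fun x => m (labOf 5 x)) hd.symm
  have hmap : ((ρG w : Matrix chevE8.Idx chevE8.Idx (ZMod 3))).map (ZMod.castHom (dvd_refl 3) K) =
      (ρ₀ w).map (ZMod.castHom (dvd_refl 3) K) := rfl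
  have hd2 := finrank_neg_eigenspace (K := K)
    (g := ρG w) (Subtype.prop _) hgg (fun h => hw ((hker w).mp h))
  rw [hmap, ← hμ, hcount, hval] at hd2
  exact hd2.elim h1 h2

end CfsgLib.E8Three
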